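-- Project SPTEN (S5980): the assembly from the packages (helper8).
import Mathlib
import Cfsg.Agent.Lib.Helper8.SPTEN.Defs

set_option autoImplicit false

namespace Cfsg.Agent.Lib.Helper8.SPTEN

open scoped Kronecker MatrixGroups Matrix

universe u

/-- S5980 from the packages. -/
theorem s5980_of (hTC : PkgTC.{u}) (hGS : PkgGramS.{u}) (hGA : PkgGramA.{u}) (hBP : PkgBadP.{u})
    (hB2 : PkgBad2.{u}) (hBR : PkgBadR.{u}) (hZ : PkgZSq.{u}) (hBkP : PkgBackP.{u})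
    (hBkM : PkgBackM.{u})
    {F : Type u} [Field F] [Fintype F] {p : ℕ} [Fact p.Prime] [CharP F p] {q : ℕ}
    (hq : Fintype.card F = q) (hodd : Odd q) (d : ℕ) (hd : 2 ≤ d) (a b : ℕ)
    (hab : 2 * d = a * b) (ha : Even a) (ha2 : 2 ≤ a) (hb : 3 ≤ b)
    (e : (Fin d ⊕ Fin d) ≃ Fin a × Fin b) (P : GL (Fin d ⊕ Fin d) F)
    (f₁ : (Fin a → F) → (Fin a → F) → F) (f₂ : (Fin b → F) → (Fin b → F) → F)
    (hf₁ : Cfsg.Geo.IsSymplecticForm f₁) (hf₂ : Cfsg.Geo.IsSymmetricForm f₂)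
    (hS : Cfsg.Geo.IsTensorFormStructure id (Cfsg.sympForm d F) f₁ f₂ e P)
    (r : ℕ) [Fact r.Prime]
    (hΩ : r ∣ (Cfsg.Geo.tensorProductSubgroup a b e P).relIndex (Cfsg.spGL d F)) :
    (∀ x ∈ Cfsg.spGL d F, (∃ z : F, ((x ^ r : GL (Fin d ⊕ Fin d) F) :
        Matrix (Fin d ⊕ Fin d) (Fin d ⊕ Fin d) F) =
          z • (1 : Matrix (Fin d ⊕ Fin d) (Fin d ⊕ Fin d) F)) →
      (∀ z : F, (x : Matrix (Fin d ⊕ Fin d) (Fin d ⊕ Fin d) F) ≠
        z • (1 : Matrix (Fin d ⊕ Fin d) (Fin d ⊕ Fin d) F)) →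
      ∃ g ∈ Cfsg.spGL d F, g⁻¹ * x * g ∈ Cfsg.Geo.tensorProductSubgroup a b e P) ↔
    (r = 2 ∧ a = 2) := by
  classical
  have hp : p.Prime := Fact.out
  have hr : r.Prime := Fact.out
  have hTS : TS d a b e P (Cfsg.Geo.gramMatrix f₁ ⊗ₖ Cfsg.Geo.gramMatrix f₂) := hS
  obtain ⟨hG2s, hG2d⟩ := hGS b f₂ hf₂
  obtain ⟨hG1, hG1d, hG1s⟩ := hGA a f₁ (by omega) hf₁
  have h2F : (2 : F) ≠ 0 := by
    intro h
    have hp2 : p = 2 := by
      have h1 : ((2 : ℕ) : F) = 0 := by exact_mod_cast h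
      have h3 := (CharP.cast_eq_zero_iff F p 2).mp h1
      exact (Nat.prime_dvd_prime_iff_eq hp Nat.prime_two).mp h3
    obtain ⟨n, -, hn⟩ := FiniteField.card F p
    rw [hq, hp2] at hn
    rw [hn] at hodd
    have h4 : Even (2 ^ (n : ℕ)) := Nat.even_pow.mpr ⟨even_two, n.pos.ne'⟩
    exact (Nat.not_even_iff_odd.mpr hodd) h4
  constructor
  · intro H
    have key : ∀ r' : ℕ, r' = r →
        Bad d a b r' (Cfsg.Geo.gramMatrix f₁ ⊗ₖ Cfsg.Geo.gramMatrix f₂) → False := by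
      intro r' hr' hbad
      obtain ⟨x, hx, hxr, hns, hbad⟩ := hbad
      rw [hr'] at hxr
      obtain ⟨g, hg, hgT⟩ := H x hx ⟨1, by rw [Units.val_pow_eq_pow_val, hxr, one_smul]⟩ hns
      obtain ⟨A, B, hInv⟩ := hTC d a b e P _ hTS x hx g hg hgT
      exact hbad A B hInv
    by_cases hrp : r = p
    · exfalso
      exact key p hrp.symm (hBP p d a b _ ha2 (by omega) hab)
    · have hrF : (r : F) ≠ 0 := by
        intro h
        have h3 := (CharP.cast_eq_zero_iff F p r).mp h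
        exact hrp ((Nat.prime_dvd_prime_iff_eq hp hr).mp h3).symm
      by_cases hr2 : r = 2
      · refine ⟨hr2, ?_⟩
        by_contra ha2'
        have ha4 : 4 ≤ a := by
          obtain ⟨k, hk⟩ := ha
          omega
        exact key 2 hr2.symm (hB2 d a b _ h2F ha4 hb hab)
      · exfalso
        have hdvd : r ∣ Nat.card ↥(Cfsg.spGL d F) := hΩ.trans (Subgroup.relIndex_dvd_card _ _)
        exact key r rfl (hBR d a b r hr hr2 hrF h2F ha ha2 hb hab hdvd _ _ hG1 hG2s hG2d)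
  · rintro ⟨rfl, rfl⟩
    intro x hx hz _
    obtain ⟨z, hz⟩ := hz
    rw [Units.val_pow_eq_pow_val, pow_two] at hz
    rcases hZ d (by omega) x hx z hz with rfl | rfl
    · rw [one_smul] at hz
      exact hBkP h2F d b e P _ _ hG2s hG2d (by omega) hTS x hx hz
    · rw [neg_smul, one_smul] at hz
      exact hBkM h2F d b e P _ _ hG1d hG1s hTS x hx hz

end Cfsg.Agent.Lib.Helper8.SPTEN
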